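import Mathlib
import Groth.Prelude.Def_CAlgX

set_option autoImplicit false

open Matrix CAlgX

namespace Groth.Agent.Minor14

universe u

variable {R : Type u} [CommRing R] {n m : ℕ}

lemma minorIdeal_zero (A : Matrix (Fin n) (Fin m) R) : minorIdeal A 0 = ⊤ :=
  (Ideal.eq_top_iff_one _).2 (Ideal.subset_span ⟨(Fin.elim0, Fin.elim0), Matrix.det_fin_zero⟩)

lemma minorIdeal_eq_bot_of_lt (A : Matrix (Fin n) (Fin m) R) {r : ℕ} (h : m < r) : minorIdeal A r = ⊥ := by
  rw [minorIdeal, Ideal.span_eq_bot]
  rintro _ ⟨⟨f, g⟩, rfl⟩
  obtain ⟨a, b, hne, hab⟩ := Fintype.exists_ne_map_eq_of_card_lt g (by simpa using h)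
  exact det_zero_of_column_eq hne fun i => by simp [hab]

theorem injective_iff_annihilator (A : Matrix (Fin n) (Fin m) R) :
    Function.Injective (Matrix.mulVecLin A) ↔ (minorIdeal A m).annihilator = ⊥ := by
  constructor
  · intro hinj
    rw [eq_bot_iff]
    intro a ha
    rw [Ideal.mem_bot]
    by_contra hne
    rw [Submodule.mem_annihilator] at ha
    let P : ℕ → Prop := fun r => ∀ x ∈ minorIdeal A r, a * x = 0
    have hP0 : ¬ P 0 := fun h => hne (by simpa using h 1 (minorIdeal_zero A ▸ Submodule.mem_top))
    obtain ⟨r, hrm, hr, hr1⟩ : ∃ r, r < m ∧ ¬ P r ∧ P (r + 1) := by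
      by_contra hh
      push Not at hh
      have : ∀ r, r ≤ m → ¬ P r := by
        intro r
        induction r with
        | zero => exact fun _ => hP0
        | succ k ih => exact fun hk => hh k (by omega) (ih (by omega))
      exact this m le_rfl fun x hx => by simpa using ha x hx
    obtain ⟨f, g, hD⟩ : ∃ (f : Fin r → Fin n) (g : Fin r → Fin m), a * (A.submatrix f g).det ≠ 0 := by
      by_contra hh
      push Not at hh
      refine hr fun x hx => ?_
      induction hx using Submodule.span_induction with
      | mem x hx => obtain ⟨⟨f, g⟩, rfl⟩ := hx; exact hh f g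
      | zero => simp
      | add x y _ _ h1 h2 => rw [mul_add, h1, h2, add_zero]
      | smul c x _ h1 => rw [smul_eq_mul, mul_left_comm, h1, mul_zero]
    have hg : Function.Injective g := fun x y hxy => by
      by_contra hxy'
      exact hD (by rw [det_zero_of_column_eq hxy' fun i => by simp [hxy], mul_zero])
    obtain ⟨j, hj⟩ : ∃ j, j ∉ Set.range g := by
      by_contra hh
      push Not at hh
      have := Fintype.card_le_of_surjective g hh
      simp at this; omega
    let g' : Fin (r + 1) → Fin m := Fin.snoc g j
    let c : Fin (r + 1) → R := fun k => (-1) ^ (r + (k : ℕ)) * (a * (A.submatrix f (g' ∘ k.succAbove)).det)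
    let x : Fin m → R := fun l => ∑ k, if g' k = l then c k else 0
    have hAx : A *ᵥ x = 0 := by
      funext i
      have h0 : a * (A.submatrix (Fin.snoc f i) g').det = 0 := hr1 _ (Ideal.subset_span ⟨(Fin.snoc f i, g'), rfl⟩)
      rw [Pi.zero_apply, ← h0, det_succ_row _ (Fin.last r), Finset.mul_sum]
      simp only [mulVec, dotProduct, x, Finset.mul_sum, mul_ite, mul_zero]
      rw [Finset.sum_comm]
      refine Finset.sum_congr rfl fun k _ => ?_
      simp only [Finset.sum_ite_eq, Finset.mem_univ, if_true, c, submatrix_apply, Fin.snoc_last, Fin.val_last,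
        Fin.succAbove_last, submatrix_submatrix, Fin.snoc_comp_castSucc]
      ring
    have hxj : x j = a * (A.submatrix f g).det := by
      simp only [x, Fin.sum_univ_castSucc, g', Fin.snoc_castSucc, Fin.snoc_last, if_true]
      rw [Finset.sum_eq_zero fun k _ => if_neg fun e => hj ⟨k, e⟩, zero_add]
      simp [c, g', Fin.snoc_comp_castSucc, Even.neg_one_pow ⟨r, rfl⟩]
    have hx0 : x = 0 := hinj (show A.mulVecLin x = A.mulVecLin 0 by rw [map_zero, Matrix.mulVecLin_apply, hAx])
    exact hD (by rw [← hxj, hx0, Pi.zero_apply])
  · intro hann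
    rw [injective_iff_map_eq_zero]
    intro x hx
    funext i
    have hmem : x i ∈ (minorIdeal A m).annihilator := by
      rw [Submodule.mem_annihilator]
      intro d hd
      induction hd using Submodule.span_induction with
      | mem d hd =>
        obtain ⟨⟨f, g⟩, rfl⟩ := hd
        by_cases hg : Function.Injective g
        · have hsur : Function.Surjective g := (Finite.injective_iff_surjective).1 hg
          let e : Fin m ≃ Fin m := Equiv.ofBijective g ⟨hg, hsur⟩
          have h0 : (A.submatrix f g) *ᵥ (x ∘ g) = 0 := by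
            funext k
            change ∑ l, A (f k) (g l) * x (g l) = 0
            rw [Fintype.sum_equiv e (fun l => A (f k) (g l) * x (g l)) (fun l => A (f k) l * x l) (fun _ => rfl)]
            exact congrFun hx (f k)
          have h1 := congrArg (fun v => (A.submatrix f g).adjugate *ᵥ v) h0
          simp only [Matrix.mulVec_mulVec, Matrix.adjugate_mul, Matrix.mulVec_zero, Matrix.smul_mulVec,
            Matrix.one_mulVec] at h1
          obtain ⟨l, rfl⟩ := hsur i
          change x (g l) * _ = 0
          rw [mul_comm]
          exact congrFun h1 l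
        · have : (A.submatrix f g).det = 0 := by
            simp only [Function.Injective, not_forall] at hg
            obtain ⟨a, b, hab, hne⟩ := hg
            exact det_zero_of_column_eq hne fun k => by simp [hab]
          change x i * (A.submatrix f g).det = 0
          rw [this, mul_zero]
      | zero => simp
      | add y z _ _ h1 h2 => rw [smul_add, h1, h2, add_zero]
      | smul c y _ h1 => rw [smul_comm, h1, smul_zero]
    rwa [hann, Ideal.mem_bot] at hmem

theorem injective_iff_rank_and_annihilator [Nontrivial R] (A : Matrix (Fin n) (Fin m) R) :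
    Function.Injective (Matrix.mulVecLin A) ↔ matrixRank A = m ∧ (detIdeal A).annihilator = ⊥ := by
  rw [injective_iff_annihilator]
  constructor
  · intro h
    have hm : matrixRank A = m := by
      refine le_antisymm (csSup_le' fun r hr => ?_) (le_csSup ⟨m, fun r hr => ?_⟩ ?_)
      · by_contra hlt; exact hr (minorIdeal_eq_bot_of_lt A (by omega))
      · by_contra hlt; exact hr (minorIdeal_eq_bot_of_lt A (by omega))
      · intro h0
        rw [h0, Submodule.annihilator_bot] at h
        exact bot_ne_top h.symm
    exact ⟨hm, by rwa [detIdeal, hm]⟩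
  · rintro ⟨hm, h⟩
    rwa [detIdeal, hm] at h

theorem annihilator_eq_bot_iff_exists_regular [IsNoetherianRing R] [Nontrivial R] (I : Ideal R) :
    I.annihilator = ⊥ ↔ ∃ a ∈ I, IsRegular a := by
  constructor
  · intro h
    by_contra hh
    push Not at hh
    have hsub : (I : Set R) ⊆ ⋃ p ∈ (associatedPrimes R R), (p : Set R) := by
      intro x hx
      rw [biUnion_associatedPrimes_eq_compl_nonZeroDivisors]
      exact fun hx' => hh x hx (isRegular_iff_mem_nonZeroDivisors.2 hx')
    have hfin := associatedPrimes.finite R R
    obtain ⟨p, hp, hle⟩ : ∃ p ∈ hfin.toFinset, I ≤ p :=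
      (Ideal.subset_union_prime (f := id) ⊥ ⊥ fun p hp _ _ =>
        ((hfin.mem_toFinset).1 hp).isPrime).1 (by simpa using hsub)
    obtain ⟨hpp, x, hx⟩ := (isAssociatedPrime_iff_exists_injective_linearMap p R).1 ((hfin.mem_toFinset).1 hp)
    have h1 : x 1 = 0 := by
      have : x 1 ∈ I.annihilator := Submodule.mem_annihilator.2 fun y hy => by
        rw [smul_eq_mul, mul_comm, ← smul_eq_mul, ← map_smul, Algebra.smul_def, mul_one]
        have : Ideal.Quotient.mk p y = 0 := Ideal.Quotient.eq_zero_iff_mem.2 (hle hy)
        rw [Ideal.Quotient.algebraMap_eq, this, map_zero]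
      rwa [h, Ideal.mem_bot] at this
    exact hpp.ne_top ((Ideal.eq_top_iff_one _).2 (Ideal.Quotient.eq_zero_iff_mem.1 (hx (h1.trans (map_zero x).symm))))
  · rintro ⟨a, ha, hreg⟩
    rw [eq_bot_iff]
    intro x hx
    rw [Ideal.mem_bot]
    have := Submodule.mem_annihilator.1 hx a ha
    exact hreg.right (show x * a = 0 * a by rw [zero_mul]; exact this)

end Groth.Agent.Minor14
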