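import Mathlib

set_option autoImplicit false

namespace Groth.Agent.Minor14

theorem exists_leftInverse_fin {R : Type*} [CommRing R] (hP : ∀ I : Ideal R, I.FG → I ≠ ⊤ → I.annihilator ≠ ⊥) :
    ∀ {m n : ℕ} (u : (Fin m → R) →ₗ[R] (Fin n → R)), Function.Injective u →
      ∃ ψ : (Fin n → R) →ₗ[R] (Fin m → R), ψ ∘ₗ u = LinearMap.id := by
  classical
  intro m
  induction m with
  | zero => exact fun u _ => ⟨0, LinearMap.ext fun x => funext fun i => i.elim0⟩
  | succ m ih =>
    intro n u hu
    let c : Fin n → R := u (Pi.single 0 1)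
    have htop : Ideal.span (Set.range c) = ⊤ := by
      by_contra hne
      refine hP _ (Submodule.fg_span (Set.finite_range c)) hne (eq_bot_iff.2 fun a ha => ?_)
      rw [Submodule.mem_annihilator] at ha
      have h0 : u (a • Pi.single 0 1) = 0 := by
        rw [map_smul]
        funext i
        exact ha (c i) (Ideal.subset_span (Set.mem_range_self i))
      have := congrFun (hu (h0.trans (map_zero u).symm)) 0
      simpa using this
    obtain ⟨r, hr⟩ := Ideal.mem_span_range_iff_exists_fun.1 (htop ▸ Submodule.mem_top : (1 : R) ∈ Ideal.span (Set.range c))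
    let φ : (Fin n → R) →ₗ[R] R := Fintype.linearCombination R r
    have hφ : φ c = 1 := by
      simp only [φ, Fintype.linearCombination_apply, smul_eq_mul]
      rw [← hr]
      exact Finset.sum_congr rfl fun i _ => mul_comm _ _
    let cons0 : (Fin m → R) →ₗ[R] (Fin (m + 1) → R) :=
      { toFun := fun z => Fin.cons 0 z
        map_add' := fun a b => by funext i; refine Fin.cases ?_ (fun j => ?_) i <;> simp
        map_smul' := fun a b => by funext i; refine Fin.cases ?_ (fun j => ?_) i <;> simp }
    let pr : (Fin n → R) →ₗ[R] (Fin n → R) := LinearMap.id - φ.smulRight c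
    let u' := pr ∘ₗ u ∘ₗ cons0
    have hdec : ∀ z : Fin (m + 1) → R, z = z 0 • Pi.single 0 1 + cons0 (Fin.tail z) := by
      intro z
      funext i
      refine Fin.cases ?_ (fun j => ?_) i <;> simp [cons0, Fin.tail]
    have hu' : Function.Injective u' := by
      rw [injective_iff_map_eq_zero]
      intro z hz
      have h1 : u (Fin.cons (-(φ (u (cons0 z)))) z) = 0 := by
        rw [hdec (Fin.cons _ z), map_add, map_smul]
        simp only [Fin.cons_zero, Fin.tail_cons, neg_smul]
        simpa [u', pr, c, sub_eq_add_neg, add_comm] using hz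
      have h2 := hu (h1.trans (map_zero u).symm)
      funext i
      simpa using congrFun h2 i.succ
    obtain ⟨ψ', hψ'⟩ := ih u' hu'
    let tl := ψ' ∘ₗ pr
    let hd : (Fin n → R) →ₗ[R] R := φ - φ ∘ₗ u ∘ₗ cons0 ∘ₗ tl
    refine ⟨LinearMap.pi fun i => Fin.cases hd (fun j => (LinearMap.proj j) ∘ₗ tl) i, LinearMap.ext fun z => ?_⟩
    have hpc : pr c = 0 := by simp [pr, hφ]
    have hu_eq : u z = z 0 • c + u (cons0 (Fin.tail z)) := by
      conv_lhs => rw [hdec z]
      rw [map_add, map_smul]
    have htl : tl (u z) = Fin.tail z := by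
      rw [hu_eq]
      simp only [tl, LinearMap.comp_apply, map_add, map_smul, hpc, map_zero, smul_zero, zero_add]
      exact LinearMap.congr_fun hψ' (Fin.tail z)
    funext i
    refine Fin.cases ?_ (fun j => ?_) i
    · simp only [LinearMap.comp_apply, LinearMap.pi_apply, Fin.cases_zero, hd, LinearMap.sub_apply, htl, LinearMap.id_apply]
      rw [hu_eq, map_add, map_smul, hφ, smul_eq_mul, mul_one, add_sub_cancel_right]
    · simp only [LinearMap.comp_apply, LinearMap.pi_apply, Fin.cases_succ, htl, LinearMap.id_apply, LinearMap.proj_apply]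
      rfl

theorem free_quotient_of_free {R : Type*} [CommRing R] [IsLocalRing R]
    (hP : ∀ I : Ideal R, I.FG → I ≠ ⊤ → I.annihilator ≠ ⊥) {n : ℕ} (K : Submodule R (Fin n → R))
    [Module.Free R K] [Module.Finite R K] :
    Module.Free R ((Fin n → R) ⧸ K) ∧
      Module.finrank R ((Fin n → R) ⧸ K) + Module.finrank R K = n := by
  let b := Module.finBasis R K
  let u : (Fin (Module.finrank R K) → R) →ₗ[R] (Fin n → R) := K.subtype ∘ₗ b.equivFun.symm.toLinearMap
  have hu : Function.Injective u := K.injective_subtype.comp b.equivFun.symm.injective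
  obtain ⟨ψ, hψ⟩ := exists_leftInverse_fin hP u hu
  have hru : LinearMap.range u = K := by
    rw [LinearMap.range_comp, LinearEquiv.range, Submodule.map_top, Submodule.range_subtype]
  have hψK : ∀ k : K, u (ψ k.1) = k.1 := fun k => by
    obtain ⟨z, hz⟩ : (k : Fin n → R) ∈ LinearMap.range u := hru.symm ▸ k.2
    rw [← hz, show ψ (u z) = z from LinearMap.congr_fun hψ z]
  let pr : (Fin n → R) →ₗ[R] K := (u ∘ₗ ψ).codRestrict K fun x => hru.le ⟨ψ x, rfl⟩
  have hpr : ∀ k : K, pr k = k := fun k => Subtype.ext (hψK k)
  have hc : IsCompl K (LinearMap.ker pr) := LinearMap.isCompl_of_proj hpr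
  let e := Submodule.quotientEquivOfIsCompl K _ hc
  have : Module.Projective R (LinearMap.ker pr) :=
    Module.Projective.of_split (LinearMap.ker pr).subtype ((LinearMap.ker pr).projectionOnto K hc.symm) (by
      ext x : 1
      exact Submodule.projectionOnto_apply_left hc.symm x)
  have : Module.Finite R (LinearMap.ker pr) := Module.Finite.equiv e
  have : Module.Free R (LinearMap.ker pr) := Module.free_of_flat_of_isLocalRing
  refine ⟨Module.Free.of_equiv e.symm, ?_⟩
  have h := LinearEquiv.finrank_eq (Submodule.prodEquivOfIsCompl K _ hc)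
  rw [Module.finrank_prod, Module.finrank_fin_fun] at h
  rw [e.finrank_eq]
  omega

end Groth.Agent.Minor14
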