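import Mathlib
import Groth.Agent.Minor14.SplitInj

set_option autoImplicit false

open Matrix

namespace Groth.Agent.Minor14

universe u

variable {R : Type u} [CommRing R]

theorem exact_map_localization (S : Submonoid R) (L : Type u) [CommRing L] [Algebra R L] [IsLocalization S L]
    {a b c : ℕ} (g : Matrix (Fin a) (Fin b) R) (f : Matrix (Fin b) (Fin c) R)
    (h : LinearMap.ker g.mulVecLin = LinearMap.range f.mulVecLin) :
    LinearMap.ker (g.map (algebraMap R L)).mulVecLin = LinearMap.range (f.map (algebraMap R L)).mulVecLin := by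
  classical
  have hmap : ∀ {p q : ℕ} (M : Matrix (Fin p) (Fin q) R) (z : Fin q → R),
      (M.map (algebraMap R L)) *ᵥ (algebraMap R L ∘ z) = algebraMap R L ∘ (M *ᵥ z) := fun M z => by
    ext i; simp [Matrix.mulVec, dotProduct, map_sum]
  refine le_antisymm (fun y hy => ?_) ?_
  · obtain ⟨s, hs⟩ := IsLocalization.exist_integer_multiples_of_finite S y
    choose z hz using hs
    have h0 : algebraMap R L ∘ (g *ᵥ z) = 0 := by
      rw [← hmap, show algebraMap R L ∘ z = (s : R) • y from funext fun i => hz i, Matrix.mulVec_smul]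
      rw [LinearMap.mem_ker, Matrix.mulVecLin_apply] at hy
      rw [hy, smul_zero]
    choose cc hcc using fun i => (IsLocalization.map_eq_zero_iff S L _).1 (congrFun h0 i)
    have hker : (∏ i, cc i : S).1 • z ∈ LinearMap.ker g.mulVecLin := by
      rw [LinearMap.mem_ker, map_smul, Matrix.mulVecLin_apply]
      funext i
      rw [Pi.smul_apply, smul_eq_mul, Pi.zero_apply, ← Finset.mul_prod_erase _ _ (Finset.mem_univ i),
        Submonoid.coe_mul, mul_comm (cc i : R), mul_assoc, hcc i, mul_zero]
    obtain ⟨w, hw⟩ := h ▸ hker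
    have hu : IsUnit (algebraMap R L ((∏ i, cc i : S) * s : S)) := IsLocalization.map_units L _
    refine ⟨(↑hu.unit⁻¹ : L) • (algebraMap R L ∘ w), ?_⟩
    rw [map_smul, Matrix.mulVecLin_apply, hmap, show f *ᵥ w = f.mulVecLin w from rfl, hw]
    funext i
    change (↑hu.unit⁻¹ : L) * algebraMap R L ((∏ i, cc i : S).1 * z i) = y i
    rw [map_mul, hz i, Algebra.smul_def, ← mul_assoc (algebraMap R L _), ← map_mul, ← Submonoid.coe_mul, ← mul_assoc,
      IsUnit.val_inv_mul, one_mul]
  · rintro _ ⟨y, rfl⟩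
    obtain ⟨s, hs⟩ := IsLocalization.exist_integer_multiples_of_finite S y
    choose z hz using hs
    have h0 : g *ᵥ (f *ᵥ z) = 0 := LinearMap.mem_ker.1 (h.ge ⟨z, rfl⟩)
    have hu : IsUnit (algebraMap R L s) := IsLocalization.map_units L s
    rw [LinearMap.mem_ker]
    have : (s : R) • ((g.map (algebraMap R L)) *ᵥ ((f.map (algebraMap R L)) *ᵥ y)) = 0 := by
      rw [← Matrix.mulVec_smul, ← Matrix.mulVec_smul, ← show algebraMap R L ∘ z = (s : R) • y from funext fun i => hz i,
        hmap, hmap, h0]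
      funext i; simp
    funext i
    have h2 := congrFun this i
    rw [Pi.smul_apply, Algebra.smul_def, Pi.zero_apply] at h2
    exact hu.mul_right_eq_zero.1 h2

theorem injective_map_localization (S : Submonoid R) (L : Type u) [CommRing L] [Algebra R L] [IsLocalization S L]
    {a b : ℕ} (g : Matrix (Fin a) (Fin b) R) (h : LinearMap.ker g.mulVecLin = ⊥) :
    LinearMap.ker (g.map (algebraMap R L)).mulVecLin = ⊥ := by
  have := exact_map_localization S L g (0 : Matrix (Fin b) (Fin 0) R) (by rw [h, Matrix.mulVecLin_zero, LinearMap.range_zero])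
  rwa [Matrix.map_zero _ (map_zero _), Matrix.mulVecLin_zero, LinearMap.range_zero] at this

theorem ker_row {b : ℕ} (π : (Fin b → R) →ₗ[R] R) :
    LinearMap.ker (Matrix.of fun (_ : Fin 1) j => π (Pi.single j 1)).mulVecLin = LinearMap.ker π := by
  ext z
  have : ∀ i, ((Matrix.of fun (_ : Fin 1) j => π (Pi.single j 1)) *ᵥ z) i = π z := fun i => by
    conv_rhs => rw [pi_eq_sum_univ' z, map_sum]
    simp [Matrix.mulVec, dotProduct, mul_comm]
  simp [LinearMap.mem_ker, funext_iff, this]

/-- Rank recursion of a resolution. -/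
def rho (n : ℕ → ℕ) (e : ℕ) : ℕ → ℤ
  | 0 => n e
  | j + 1 => n (e - 1 - j) - rho n e j

theorem range_free_of_resolution [IsLocalRing R] (hP : ∀ I : Ideal R, I.FG → I ≠ ⊤ → I.annihilator ≠ ⊥)
    (e : ℕ) (n : ℕ → ℕ) (A : (i : ℕ) → Matrix (Fin (n i)) (Fin (n (i + 1))) R) (he : 1 ≤ e)
    (hA : ∀ i, i + 2 ≤ e → LinearMap.ker (A i).mulVecLin = LinearMap.range (A (i + 1)).mulVecLin)
    (hlast : LinearMap.ker (A (e - 1)).mulVecLin = ⊥) :
    ∀ j, j < e → ∀ i, i + j + 1 = e → Module.Free R (LinearMap.range (A i).mulVecLin) ∧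
      (Module.finrank R (LinearMap.range (A i).mulVecLin) : ℤ) = rho n e j := by
  intro j
  induction j with
  | zero =>
    intro _ i hi
    obtain rfl : e = i + 1 := by omega
    have hinj : Function.Injective (A i).mulVecLin := LinearMap.ker_eq_bot.1 hlast
    exact ⟨Module.Free.of_equiv (LinearEquiv.ofInjective _ hinj),
      by rw [LinearMap.finrank_range_of_inj hinj, Module.finrank_fin_fun]; rfl⟩
  | succ j ih =>
    intro hj i hi
    obtain ⟨hfree, hrk⟩ := ih (by omega) (i + 1) (by omega)
    rw [← hA i (by omega)] at hfree hrk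
    have : Module.Finite R (LinearMap.ker (A i).mulVecLin) := by
      rw [hA i (by omega)]; exact Module.Finite.range _
    obtain ⟨hf, hr⟩ := free_quotient_of_free hP (LinearMap.ker (A i).mulVecLin)
    let e' := (A i).mulVecLin.quotKerEquivRange
    refine ⟨Module.Free.of_equiv e', ?_⟩
    rw [← e'.finrank_eq]
    have he' : e - 1 - j = i + 1 := by omega
    simp only [rho, he', ← hrk]
    omega

theorem ideal_eq_bot_or_top [IsLocalRing R] (hP : ∀ I : Ideal R, I.FG → I ≠ ⊤ → I.annihilator ≠ ⊥)
    (J : Ideal R) [Module.Free R J] [Module.Finite R J] :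
    (Module.finrank R J = 0 ∧ J = ⊥) ∨ (Module.finrank R J ≠ 0 ∧ J = ⊤) := by
  have hle : Module.finrank R J ≤ 1 :=
    (LinearMap.finrank_le_finrank_of_injective (f := J.subtype) J.injective_subtype).trans (Module.finrank_self R).le
  rcases Nat.le_one_iff_eq_zero_or_eq_one.1 hle with h | h
  · refine Or.inl ⟨h, ?_⟩
    have : Subsingleton J := (Module.finBasisOfFinrankEq R J h).equivFun.subsingleton
    exact (Submodule.subsingleton_iff_eq_bot).1 this
  · refine Or.inr ⟨by omega, ?_⟩
    let b := Module.finBasisOfFinrankEq R J h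
    have hspan : J = Ideal.span {(b 0 : R)} := by
      refine le_antisymm (fun x hx => ?_) ((Ideal.span_singleton_le_iff_mem _).2 (b 0).2)
      rw [Ideal.mem_span_singleton]
      refine ⟨b.repr ⟨x, hx⟩ 0, ?_⟩
      have h1 := congrArg Subtype.val (b.sum_repr ⟨x, hx⟩)
      rw [Fin.sum_univ_one] at h1
      rw [mul_comm]
      exact h1.symm
    by_contra hne
    obtain ⟨x, hx, hx0⟩ := (Submodule.ne_bot_iff _).1 (hP J (hspan ▸ Submodule.fg_span_singleton _) hne)
    refine hx0 ?_
    have h1 : x • b 0 = 0 := Subtype.ext (Submodule.mem_annihilator.1 hx _ (b 0).2)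
    have h2 := congrArg (fun z => b.repr z 0) h1
    simpa using h2

theorem exists_mem_nonZeroDivisors [IsNoetherianRing R]
    (e : ℕ) (he : 1 ≤ e) (n : ℕ → ℕ) (A : (i : ℕ) → Matrix (Fin (n i)) (Fin (n (i + 1))) R)
    (π : (Fin (n 0) → R) →ₗ[R] R) (hI : LinearMap.range π ≠ ⊥)
    (h0 : LinearMap.ker π = LinearMap.range (A 0).mulVecLin)
    (hA : ∀ i, i + 2 ≤ e → LinearMap.ker (A i).mulVecLin = LinearMap.range (A (i + 1)).mulVecLin)
    (hlast : LinearMap.ker (A (e - 1)).mulVecLin = ⊥) :
    ∃ x : R, x ∈ LinearMap.range π ∧ x ∈ nonZeroDivisors R := by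
  classical
  let I : Ideal R := LinearMap.range π
  let ρ : ℤ := n 0 - rho n e (e - 1)
  have key : ∀ (p : Ideal R) [p.IsPrime], IsAssociatedPrime p R →
      (ρ = 0 → I.map (algebraMap R (Localization.AtPrime p)) = ⊥) ∧
      (ρ ≠ 0 → I.map (algebraMap R (Localization.AtPrime p)) = ⊤) := by
    intro p _ hp
    let L := Localization.AtPrime p
    have hP : ∀ J : Ideal L, J.FG → J ≠ ⊤ → J.annihilator ≠ ⊥ := by
      intro J _ hJ
      obtain ⟨_, f, hf⟩ := (isAssociatedPrime_iff_exists_injective_linearMap p R).1 hp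
      have hkill : ∀ a ∈ p, a * f 1 = 0 := fun a ha => by
        rw [← smul_eq_mul, ← map_smul, Algebra.smul_def, Ideal.Quotient.algebraMap_eq,
          Ideal.Quotient.eq_zero_iff_mem.2 ha, zero_mul, map_zero]
      have hne : algebraMap R L (f 1) ≠ 0 := by
        rw [Ne, IsLocalization.map_eq_zero_iff p.primeCompl]
        rintro ⟨s, hs⟩
        have h2 : f (Ideal.Quotient.mk p (s : R)) = f 0 := by
          rw [map_zero, show Ideal.Quotient.mk p (s : R) = (s : R) • (1 : R ⧸ p) by
            rw [Algebra.smul_def, mul_one]; rfl, map_smul, smul_eq_mul]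
          exact hs
        exact s.2 (Ideal.Quotient.eq_zero_iff_mem.1 (hf h2))
      refine (Submodule.ne_bot_iff _).2 ⟨_, Submodule.mem_annihilator.2 fun y hy => ?_, hne⟩
      have hy' : y ∈ p.map (algebraMap R L) := by
        rw [Localization.AtPrime.map_eq_maximalIdeal]; exact IsLocalRing.le_maximalIdeal hJ hy
      rw [smul_eq_mul]
      clear hy
      induction hy' using Submodule.span_induction with
      | mem z hz => obtain ⟨a, ha, rfl⟩ := hz; rw [← map_mul, mul_comm, hkill a ha, map_zero]
      | zero => rw [mul_zero]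
      | add u v _ _ h1 h2 => rw [mul_add, h1, h2, add_zero]
      | smul c u _ h1 => rw [smul_eq_mul, mul_left_comm, h1, mul_zero]
    let A' : (i : ℕ) → Matrix (Fin (n i)) (Fin (n (i + 1))) L := fun i => (A i).map (algebraMap R L)
    obtain ⟨hfree, hrk⟩ := range_free_of_resolution hP e n A' he
      (fun i hi => exact_map_localization p.primeCompl L _ _ (hA i hi))
      (injective_map_localization p.primeCompl L _ hlast) (e - 1) (by omega) 0 (by omega)
    let v : Matrix (Fin 1) (Fin (n 0)) R := Matrix.of fun _ j => π (Pi.single j 1)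
    have hex := exact_map_localization p.primeCompl L v (A 0) ((ker_row π).trans h0)
    let π' : (Fin (n 0) → L) →ₗ[L] L := LinearMap.proj (0 : Fin 1) ∘ₗ (v.map (algebraMap R L)).mulVecLin
    have hkerπ' : LinearMap.ker π' = LinearMap.range (A' 0).mulVecLin := by
      rw [← hex]
      ext z
      rw [LinearMap.mem_ker, LinearMap.mem_ker]
      exact ⟨fun h => funext fun i => by rw [Subsingleton.elim i 0]; exact h, fun h => congrFun h 0⟩
    rw [← hkerπ'] at hfree hrk
    have : Module.Finite L (LinearMap.ker π') := by rw [hkerπ']; exact Module.Finite.range _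
    obtain ⟨hf', hr'⟩ := free_quotient_of_free hP (LinearMap.ker π')
    let J : Ideal L := LinearMap.range π'
    let e' : _ ≃ₗ[L] J := π'.quotKerEquivRange
    have : Module.Free L J := Module.Free.of_equiv e'
    have : Module.Finite L J := Module.Finite.equiv e'
    have hJrk : (Module.finrank L J : ℤ) = ρ := by
      rw [← e'.finrank_eq]
      simp only [ρ, ← hrk]
      omega
    have hmap : I.map (algebraMap R L) = J := by
      have hπ : ∀ z : Fin (n 0) → R, algebraMap R L (π z) = π' (algebraMap R L ∘ z) := by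
        intro z
        conv_lhs => rw [pi_eq_sum_univ' z, map_sum]
        simp [π', v, Matrix.mulVec, dotProduct, map_sum, mul_comm]
      refine le_antisymm (Ideal.map_le_iff_le_comap.2 ?_) ?_
      · rintro _ ⟨z, rfl⟩
        exact ⟨_, (hπ z).symm⟩
      · rintro _ ⟨y, rfl⟩
        rw [pi_eq_sum_univ' y, map_sum]
        refine sum_mem fun i _ => ?_
        rw [map_smul]
        refine Submodule.smul_mem _ _ ?_
        have h1 := hπ (Pi.single i 1)
        rw [show algebraMap R L ∘ (Pi.single i 1 : Fin (n 0) → R) = Pi.single i 1 by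
          ext j; simp [Pi.single_apply, apply_ite (algebraMap R L)]] at h1
        rw [← h1]
        exact Ideal.mem_map_of_mem _ ⟨_, rfl⟩
    rw [hmap]
    rcases ideal_eq_bot_or_top hP J with ⟨h1, h2⟩ | ⟨h1, h2⟩
    · exact ⟨fun _ => h2, fun hne => absurd (by rw [← hJrk, h1]; rfl) hne⟩
    · exact ⟨fun h => absurd (by exact_mod_cast hJrk.trans h) h1, fun _ => h2⟩
  have hρ : ρ ≠ 0 := by
    intro hρ
    obtain ⟨x, hx, hx0⟩ := (Submodule.ne_bot_iff _).1 hI
    obtain ⟨p, hp, hle⟩ := exists_le_isAssociatedPrime_of_isNoetherianRing R x hx0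
    have := hp.isPrime
    have h1 : algebraMap R (Localization.AtPrime p) x = 0 :=
      ((key p hp).1 hρ).le (Ideal.mem_map_of_mem _ hx)
    obtain ⟨s, hs⟩ := (IsLocalization.map_eq_zero_iff p.primeCompl _ x).1 h1
    exact s.2 (hle (Submodule.mem_colon_singleton.2 (by simpa using hs)))
  by_contra hh
  push Not at hh
  have hsub : (I : Set R) ⊆ ⋃ p ∈ (associatedPrimes R R), (p : Set R) := by
    intro x hx
    rw [biUnion_associatedPrimes_eq_compl_nonZeroDivisors]
    exact hh x hx
  have hfin := associatedPrimes.finite R R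
  obtain ⟨p, hp, hle⟩ : ∃ p ∈ hfin.toFinset, I ≤ p :=
    (Ideal.subset_union_prime (f := id) ⊥ ⊥ fun p hp _ _ =>
      ((hfin.mem_toFinset).1 hp).isPrime).1 (by simpa using hsub)
  have hp' : IsAssociatedPrime p R := (hfin.mem_toFinset).1 hp
  have := hp'.isPrime
  have h1 := ((key p hp').2 hρ).ge.trans (Ideal.map_mono hle)
  rw [Localization.AtPrime.map_eq_maximalIdeal, top_le_iff] at h1
  exact (IsLocalRing.maximalIdeal.isMaximal _).ne_top h1

end Groth.Agent.Minor14
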