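import Mathlib
import Groth.Prelude.Def_CAlgX
import Groth.Prelude.Def_CAlg
import Groth.Agent.Minor14.McCoy
import Groth.Agent.Minor14.Resolution

set_option autoImplicit false

open Matrix CAlgX RingTheory.Sequence
open scoped Pointwise

namespace Groth.Agent.Minor14

universe u

variable {R : Type u} [CommRing R] {t : ℕ}

/-- Signed maximal minors. -/
def sMinor (Ψ : Matrix (Fin (t + 1)) (Fin t) R) (i : Fin (t + 1)) : R :=
  (-1) ^ (i : ℕ) * (Ψ.submatrix i.succAbove id).det

/-- The matrix `[v | Ψ]`. -/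
def aug' (Ψ : Matrix (Fin (t + 1)) (Fin t) R) (v : Fin (t + 1) → R) : Matrix (Fin (t + 1)) (Fin (t + 1)) R :=
  Matrix.of fun i => Fin.cons (v i) (Ψ i)

lemma det_aug' (Ψ : Matrix (Fin (t + 1)) (Fin t) R) (v : Fin (t + 1) → R) :
    (aug' Ψ v).det = ∑ i, sMinor Ψ i * v i := by
  rw [det_succ_column_zero]
  refine Finset.sum_congr rfl fun i _ => ?_
  have : (aug' Ψ v).submatrix i.succAbove Fin.succ = Ψ.submatrix i.succAbove id := by
    ext a b; simp [aug']
  rw [this]
  simp [aug', sMinor]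
  ring

lemma adjugate_aug'_zero (Ψ : Matrix (Fin (t + 1)) (Fin t) R) (v : Fin (t + 1) → R) (i : Fin (t + 1)) :
    (aug' Ψ v).adjugate 0 i = sMinor Ψ i := by
  rw [adjugate_fin_succ_eq_det_submatrix]
  have : (aug' Ψ v).submatrix i.succAbove (Fin.succAbove 0) = Ψ.submatrix i.succAbove id := by
    ext a b; simp [aug', Fin.succAbove_zero]
  rw [this]
  simp [sMinor]

lemma smul_eq_mulVec (Ψ : Matrix (Fin (t + 1)) (Fin t) R) (v : Fin (t + 1) → R) (i : Fin (t + 1)) :
    ∃ w : Fin t → R, sMinor Ψ i • v + Ψ *ᵥ w = (∑ j, sMinor Ψ j * v j) • Pi.single i 1 := by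
  refine ⟨fun j => (aug' Ψ v).adjugate j.succ i, ?_⟩
  funext k
  have h := congrFun (congrFun (mul_adjugate (aug' Ψ v)) k) i
  rw [det_aug', Matrix.mul_apply, Fin.sum_univ_succ, adjugate_aug'_zero] at h
  simp only [aug', Matrix.of_apply, Fin.cons_zero, Fin.cons_succ, Matrix.smul_apply, Matrix.one_apply] at h
  simp only [Pi.add_apply, Pi.smul_apply, smul_eq_mul, mulVec, dotProduct, Pi.single_apply]
  rw [← smul_eq_mul (∑ j, sMinor Ψ j * v j), ← h, mul_comm (sMinor Ψ i)]
  rfl

lemma sum_sMinor_mulVec (Ψ : Matrix (Fin (t + 1)) (Fin t) R) (u : Fin t → R) :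
    ∑ i, sMinor Ψ i * (Ψ *ᵥ u) i = 0 := by
  rw [← det_aug']
  have hv : (aug' Ψ (Ψ *ᵥ u)) *ᵥ (Fin.cons 1 (fun j => -u j)) = 0 := by
    funext k
    simp only [mulVec, dotProduct, Fin.sum_univ_succ, aug', Matrix.of_apply, Fin.cons_zero, Fin.cons_succ, mul_one,
      mul_neg, Finset.sum_neg_distrib, add_neg_cancel, Pi.zero_apply]
  have h := congrArg (fun z => (aug' Ψ (Ψ *ᵥ u)).adjugate *ᵥ z) hv
  simp only [mulVec_mulVec, adjugate_mul, mulVec_zero, smul_mulVec, one_mulVec] at h
  simpa using congrFun h 0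

lemma span_sMinor (Ψ : Matrix (Fin (t + 1)) (Fin t) R) :
    Ideal.span (Set.range (sMinor Ψ)) = minorIdeal Ψ t := by
  refine le_antisymm (Ideal.span_le.2 ?_) (Ideal.span_le.2 ?_)
  · rintro _ ⟨i, rfl⟩
    exact Ideal.mul_mem_left _ _ (Ideal.subset_span ⟨(i.succAbove, id), rfl⟩)
  · rintro _ ⟨⟨f, g⟩, rfl⟩
    change (Ψ.submatrix f g).det ∈ Ideal.span _
    by_cases hf : Function.Injective f
    swap
    · simp only [Function.Injective, not_forall] at hf
      obtain ⟨a, b, hab, hne⟩ := hf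
      rw [det_zero_of_row_eq hne (by ext k; simp [hab])]
      exact zero_mem _
    by_cases hg : Function.Injective g
    swap
    · simp only [Function.Injective, not_forall] at hg
      obtain ⟨a, b, hab, hne⟩ := hg
      rw [det_zero_of_column_eq hne fun k => by simp [hab]]
      exact zero_mem _
    obtain ⟨i, hi⟩ : ∃ i, i ∉ Set.range f := by
      by_contra hh
      push Not at hh
      have := Fintype.card_le_of_surjective f hh
      simp at this
    have hσ : ∀ a, ∃ b, i.succAbove b = f a := fun a =>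
      Fin.exists_succAbove_eq fun e => hi ⟨a, e⟩
    choose σ hσ using hσ
    have hσinj : Function.Injective σ := fun a b hab => hf (by rw [← hσ a, ← hσ b, hab])
    let σ' : Fin t ≃ Fin t := Equiv.ofBijective σ ⟨hσinj, Finite.injective_iff_surjective.1 hσinj⟩
    let g' : Fin t ≃ Fin t := Equiv.ofBijective g ⟨hg, Finite.injective_iff_surjective.1 hg⟩
    have : Ψ.submatrix f g = ((Ψ.submatrix i.succAbove id).submatrix σ' id).submatrix id g' := by
      ext a b
      change Ψ (f a) (g b) = Ψ (i.succAbove (σ a)) (g b)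
      rw [hσ]
    rw [this, det_permute', det_permute]
    have hmem : (Ψ.submatrix i.succAbove id).det ∈ Ideal.span (Set.range (sMinor Ψ)) := by
      have h1 : (-1 : R) ^ (i : ℕ) * sMinor Ψ i ∈ Ideal.span (Set.range (sMinor Ψ)) :=
        Ideal.mul_mem_left _ _ (Ideal.subset_span ⟨i, rfl⟩)
      rwa [sMinor, ← mul_assoc, ← pow_add, Even.neg_one_pow ⟨_, rfl⟩, one_mul] at h1
    exact Ideal.mul_mem_left _ _ (Ideal.mul_mem_left _ _ hmem)

lemma mem_range_of_mem_minorIdeal (Ψ : Matrix (Fin (t + 1)) (Fin t) R) (v : Fin (t + 1) → R)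
    (hv : ∑ i, sMinor Ψ i * v i = 0) {x : R} (hx : x ∈ minorIdeal Ψ t) : x • v ∈ LinearMap.range Ψ.mulVecLin := by
  rw [← span_sMinor] at hx
  induction hx using Submodule.span_induction with
  | mem d hd =>
    obtain ⟨i, rfl⟩ := hd
    obtain ⟨w, hw⟩ := smul_eq_mulVec Ψ v i
    rw [hv, zero_smul, add_eq_zero_iff_eq_neg] at hw
    exact ⟨-w, by rw [Matrix.mulVecLin_apply, Matrix.mulVec_neg, hw]⟩
  | zero => simp
  | add a b _ _ ha hb => rw [add_smul]; exact add_mem ha hb
  | smul c a _ ha => rw [smul_assoc]; exact Submodule.smul_mem _ _ ha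

lemma mem_smul_top_iff (x z : R) : Submodule.Quotient.mk (p := x • (⊤ : Submodule R R)) z = 0 ↔ x ∣ z := by
  rw [Submodule.Quotient.mk_eq_zero, Submodule.mem_smul_pointwise_iff_exists]
  exact ⟨fun ⟨y, _, hy⟩ => ⟨y, hy.symm⟩, fun ⟨y, hy⟩ => ⟨y, trivial, hy.symm⟩⟩

/-- Two regular elements from depth at least two. -/
lemma exists_pair_of_two_le_idealDepth [Nontrivial R] {I : Ideal R} (h : 2 ≤ LocCoh.idealDepth I R) :
    (1 : R) ∈ I ∨ ∃ x ∈ I, ∃ y ∈ I, x ∈ nonZeroDivisors R ∧ ∀ z, x ∣ y * z → x ∣ z := by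
  by_cases hI : I • (⊤ : Submodule R R) = ⊤
  · exact Or.inl ((Ideal.eq_top_iff_one I).1 (by simpa using hI))
  rw [LocCoh.idealDepth, if_neg hI] at h
  have h1 : ((1 : ℕ) : ℕ∞) < ⨆ (rs : List R) (_ : IsWeaklyRegular R rs ∧ ∀ r ∈ rs, r ∈ I), (rs.length : ℕ∞) :=
    lt_of_lt_of_le (by norm_num) h
  obtain ⟨rs, hrs⟩ := lt_iSup_iff.mp h1
  obtain ⟨⟨hreg, hmem⟩, hlt⟩ := lt_iSup_iff.mp hrs
  match rs, hreg, hmem, hlt with
  | [], _, _, hlt => simp at hlt
  | [x], _, _, hlt => simp at hlt
  | x :: y :: rest, hreg, hmem, _ =>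
    rw [isWeaklyRegular_cons_iff, isWeaklyRegular_cons_iff] at hreg
    refine Or.inr ⟨x, hmem x (by simp), y, hmem y (by simp), ?_, fun z hz => ?_⟩
    · exact mem_nonZeroDivisors_iff_right.2 fun z hz => hreg.1 (show x • z = x • 0 by rw [smul_zero, smul_eq_mul, mul_comm, hz])
    · refine (mem_smul_top_iff x z).1 (hreg.2.1 ?_)
      change y • (Submodule.Quotient.mk z : QuotSMulTop x R) = y • 0
      rw [smul_zero, ← Submodule.Quotient.mk_smul]
      exact (mem_smul_top_iff x (y * z)).2 hz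

theorem exact_of_depth [IsNoetherianRing R] (Ψ : Matrix (Fin (t + 1)) (Fin t) R)
    (hdepth : 2 ≤ LocCoh.idealDepth (minorIdeal Ψ t) R) (a : R) (ha : a ∈ nonZeroDivisors R) :
    LinearMap.ker Ψ.mulVecLin = ⊥ ∧
      LinearMap.ker (Fintype.linearCombination R (fun i : Fin (t + 1) => a * sMinor Ψ i)) =
        LinearMap.range Ψ.mulVecLin ∧
      LinearMap.range (Fintype.linearCombination R (fun i : Fin (t + 1) => a * sMinor Ψ i)) =
        Ideal.span {a} * minorIdeal Ψ t := by
  classical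
  rcases subsingleton_or_nontrivial R with hR | hR
  · refine ⟨Subsingleton.elim _ _, Subsingleton.elim _ _, Subsingleton.elim _ _⟩
  have hinj : Function.Injective Ψ.mulVecLin := by
    rw [injective_iff_annihilator, annihilator_eq_bot_iff_exists_regular]
    rcases exists_pair_of_two_le_idealDepth hdepth with h | ⟨x, hx, -, -, hreg, -⟩
    · exact ⟨1, h, isRegular_one⟩
    · exact ⟨x, hx, isRegular_iff_mem_nonZeroDivisors.2 hreg⟩
  refine ⟨LinearMap.ker_eq_bot.2 hinj, le_antisymm (fun v hv => ?_) ?_, ?_⟩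
  · have hv0 : ∑ i, sMinor Ψ i * v i = 0 := by
      rw [LinearMap.mem_ker, Fintype.linearCombination_apply] at hv
      refine mem_nonZeroDivisors_iff_right.1 ha _ ?_
      rw [Finset.sum_mul, ← hv]
      exact Finset.sum_congr rfl fun i _ => by rw [smul_eq_mul]; ring
    rcases exists_pair_of_two_le_idealDepth hdepth with h | ⟨x, hx, y, hy, hreg, hxy⟩
    · simpa using mem_range_of_mem_minorIdeal Ψ v hv0 h
    obtain ⟨u, hu⟩ := mem_range_of_mem_minorIdeal Ψ v hv0 hx
    obtain ⟨w, hw⟩ := mem_range_of_mem_minorIdeal Ψ v hv0 hy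
    have h2 : y • u = x • w := hinj (by rw [map_smul, map_smul, hu, hw, smul_comm])
    choose u' hu' using fun i => hxy (u i) ⟨w i, congrFun h2 i⟩
    refine ⟨u', funext fun i => ?_⟩
    have h3 := congrFun hu i
    rw [show u = x • u' from funext hu', map_smul, Pi.smul_apply, Pi.smul_apply, smul_eq_mul, smul_eq_mul] at h3
    exact (mul_cancel_left_mem_nonZeroDivisors hreg).1 h3
  · rintro _ ⟨u, rfl⟩
    rw [LinearMap.mem_ker, Fintype.linearCombination_apply, Matrix.mulVecLin_apply]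
    rw [Finset.sum_congr rfl fun i _ => show (Ψ *ᵥ u) i • (a * sMinor Ψ i) = a * (sMinor Ψ i * (Ψ *ᵥ u) i) by
      rw [smul_eq_mul]; ring, ← Finset.mul_sum, sum_sMinor_mulVec, mul_zero]
  · rw [Fintype.range_linearCombination, ← span_sMinor, Ideal.span_mul_span', Set.singleton_mul, ← Set.range_comp]
    rfl

theorem length_one_resolution [IsNoetherianRing R] (m n : ℕ) (Ψ : Matrix (Fin n) (Fin m) R)
    (π : (Fin n → R) →ₗ[R] R) (hΨ : LinearMap.ker Ψ.mulVecLin = ⊥)
    (hex : LinearMap.ker π = LinearMap.range Ψ.mulVecLin) (hI : LinearMap.range π ≠ ⊥) :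
    n = m + 1 ∧
      (∃ a : R, a ∈ nonZeroDivisors R ∧ LinearMap.range π = Ideal.span {a} * minorIdeal Ψ m) ∧
      2 ≤ LocCoh.idealDepth (minorIdeal Ψ m) R := by
  classical
  have : Nontrivial R := by
    obtain ⟨x, -, hx⟩ := (Submodule.ne_bot_iff _).1 hI
    exact ⟨⟨x, 0, hx⟩⟩
  have hinj : Function.Injective Ψ.mulVecLin := LinearMap.ker_eq_bot.1 hΨ
  -- a non-zero-divisor in the ideal
  let N : ℕ → ℕ := fun i => if i = 0 then n else if i = 1 then m else 0
  let A : (i : ℕ) → Matrix (Fin (N i)) (Fin (N (i + 1))) R := fun i => match i with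
    | 0 => Ψ
    | i + 1 => 0
  have hnz : ∃ x, x ∈ LinearMap.range π ∧ x ∈ nonZeroDivisors R := exists_mem_nonZeroDivisors 1 le_rfl N A π hI hex (fun i hi => absurd hi (by omega)) hΨ
  obtain ⟨x₀, hx₀, hreg₀⟩ := hnz
  obtain ⟨w, hw⟩ := hx₀
  have hπΨ : ∀ u, π (Ψ.mulVecLin u) = 0 := fun u => LinearMap.mem_ker.1 (hex.ge ⟨u, rfl⟩)
  let Φ : ((Fin m → R) × R) →ₗ[R] (Fin n → R) := Ψ.mulVecLin.coprod (LinearMap.toSpanSingleton R _ w)
  have hΦ : Function.Injective Φ := by
    rw [injective_iff_map_eq_zero]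
    rintro ⟨u, c⟩ h
    have hc : c = 0 := by
      have h1 := congrArg π h
      simp only [Φ, LinearMap.coprod_apply, LinearMap.toSpanSingleton_apply, map_add, map_smul, hπΨ, hw, zero_add, map_zero] at h1
      exact mem_nonZeroDivisors_iff_right.1 hreg₀ c h1
    subst hc
    simp only [Φ, LinearMap.coprod_apply, map_zero, add_zero] at h
    rw [hinj (h.trans (map_zero _).symm)]
    rfl
  have hn1 : m + 1 ≤ n := by
    have h1 := LinearMap.finrank_le_finrank_of_injective hΦ
    rwa [Module.finrank_prod, Module.finrank_fin_fun, Module.finrank_fin_fun, Module.finrank_self] at h1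
  have hn2 : n ≤ m + 1 := by
    let S : (Fin n → R) →ₗ[R] LinearMap.range Φ :=
      (LinearMap.lsmul R (Fin n → R) x₀).codRestrict _ fun v => by
        obtain ⟨u, hu⟩ := hex.le (show x₀ • v - π v • w ∈ LinearMap.ker π by
          rw [LinearMap.mem_ker, map_sub, map_smul, map_smul, hw, smul_eq_mul, smul_eq_mul, mul_comm, sub_self])
        refine ⟨(u, π v), ?_⟩
        simp only [Φ, LinearMap.coprod_apply, LinearMap.toSpanSingleton_apply, hu, LinearMap.lsmul_apply, sub_add_cancel]
    have hS : Function.Injective S := fun a b hab => funext fun i => by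
      have h1 := congrFun (congrArg Subtype.val hab) i
      exact (mul_cancel_left_mem_nonZeroDivisors hreg₀).1 h1
    have : Module.Finite R (LinearMap.range Φ) := Module.Finite.range _
    have h1 := LinearMap.finrank_le_finrank_of_injective hS
    rw [LinearMap.finrank_range_of_inj hΦ, Module.finrank_prod, Module.finrank_fin_fun, Module.finrank_fin_fun,
      Module.finrank_self] at h1
    exact h1
  obtain rfl : n = m + 1 := le_antisymm hn2 hn1
  let g : Fin (m + 1) → R := fun i => π (Pi.single i 1)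
  have hπ : ∀ v, π v = ∑ i, v i * g i := fun v => by
    conv_lhs => rw [pi_eq_sum_univ' v, map_sum]
    simp [g]
  -- regular pair
  obtain ⟨x, hx, hxr⟩ := (annihilator_eq_bot_iff_exists_regular _).1 ((injective_iff_annihilator Ψ).1 hinj)
  have hxn : x ∈ nonZeroDivisors R := isRegular_iff_mem_nonZeroDivisors.1 hxr
  have hpair : minorIdeal Ψ m = ⊤ ∨ ∃ y ∈ minorIdeal Ψ m, ∀ z, x ∣ y * z → x ∣ z := by
    by_cases hxu : Ideal.span {x} = ⊤
    · exact Or.inl (top_le_iff.1 (hxu.ge.trans ((Ideal.span_singleton_le_iff_mem _).2 hx)))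
    let q := Ideal.Quotient.mk (Ideal.span {x})
    have : Nontrivial (R ⧸ Ideal.span {x}) := Ideal.Quotient.nontrivial_iff.2 hxu
    have hdvd : ∀ r, q r = 0 ↔ x ∣ r := fun r => by
      rw [Ideal.Quotient.eq_zero_iff_mem, Ideal.mem_span_singleton]
    have hinj' : Function.Injective (Ψ.map q).mulVecLin := by
      rw [injective_iff_map_eq_zero]
      intro ubar hubar
      choose u hu using fun i => Ideal.Quotient.mk_surjective (ubar i)
      have hv : ∀ i, x ∣ (Ψ *ᵥ u) i := fun i => by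
        rw [← hdvd]
        refine Eq.trans ?_ (congrFun hubar i)
        simp only [Matrix.mulVecLin_apply, Matrix.mulVec, dotProduct, map_sum, map_mul, Matrix.map_apply]
        exact Finset.sum_congr rfl fun j _ => by rw [← hu j]
      choose v hv using hv
      have hπv : π v = 0 := by
        refine (mul_cancel_left_mem_nonZeroDivisors hxn).1 ?_
        rw [mul_zero, ← smul_eq_mul, ← map_smul, ← hπΨ u]
        congr 1
        funext i
        exact (hv i).symm
      obtain ⟨u', hu'⟩ := hex.le (LinearMap.mem_ker.2 hπv)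
      have h2 : u = x • u' := hinj (by
        rw [map_smul, hu']
        funext i
        exact hv i)
      funext j
      rw [← hu j, h2, Pi.zero_apply, Pi.smul_apply, smul_eq_mul, hdvd]
      exact dvd_mul_right _ _
    obtain ⟨yb, hyb, hybr⟩ := (annihilator_eq_bot_iff_exists_regular _).1 ((injective_iff_annihilator _).1 hinj')
    have hmap : minorIdeal (Ψ.map q) m = (minorIdeal Ψ m).map q := by
      rw [minorIdeal, minorIdeal, Ideal.map_span, ← Set.range_comp]
      congr 1
      refine congrArg Set.range (funext fun fg => ?_)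
      rw [Function.comp_apply, RingHom.map_det]
      rfl
    rw [hmap] at hyb
    obtain ⟨y, hy, rfl⟩ := (Ideal.mem_map_iff_of_surjective q Ideal.Quotient.mk_surjective).1 hyb
    refine Or.inr ⟨y, hy, fun z hz => ?_⟩
    rw [← hdvd] at hz ⊢
    rw [map_mul] at hz
    exact hybr.left (hz.trans (mul_zero _).symm)
  have hdepth : 2 ≤ LocCoh.idealDepth (minorIdeal Ψ m) R := by
    rw [LocCoh.idealDepth]
    split_ifs with htop
    · exact le_top
    rcases hpair with h | ⟨y, hy, hyr⟩
    · exact absurd (by rw [h]; simp) htop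
    refine le_iSup₂_of_le [x, y] ⟨?_, by simp [hx, hy]⟩ (by simp)
    rw [isWeaklyRegular_cons_iff, isWeaklyRegular_cons_iff]
    refine ⟨fun a b hab => (mul_cancel_left_mem_nonZeroDivisors hxn).1 hab, fun a b hab => ?_, IsWeaklyRegular.nil _ _⟩
    obtain ⟨a, rfl⟩ := Submodule.Quotient.mk_surjective _ a
    obtain ⟨b, rfl⟩ := Submodule.Quotient.mk_surjective _ b
    change y • Submodule.Quotient.mk (p := x • (⊤ : Submodule R R)) a = y • Submodule.Quotient.mk b at hab
    rw [← Submodule.Quotient.mk_smul, ← Submodule.Quotient.mk_smul, ← sub_eq_zero, ← Submodule.Quotient.mk_sub,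
      ← smul_sub, smul_eq_mul, mem_smul_top_iff] at hab
    rw [← sub_eq_zero, ← Submodule.Quotient.mk_sub]
    exact (mem_smul_top_iff _ _).2 (hyr _ hab)
  refine ⟨rfl, ?_, hdepth⟩
  have hsymm : ∀ i j, sMinor Ψ i * g j = sMinor Ψ j * g i := by
    intro i j
    obtain ⟨u, hu⟩ := smul_eq_mulVec Ψ (Pi.single j 1) i
    have h1 := congrArg π hu
    simp only [map_add, map_smul, Pi.single_apply, mul_ite, mul_one, mul_zero, Finset.sum_ite_eq', Finset.mem_univ,
      if_true, smul_eq_mul] at h1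
    rwa [show π (Ψ *ᵥ u) = 0 from hπΨ u, add_zero] at h1
  have hcoef : ∀ z ∈ minorIdeal Ψ m, ∃ c, ∀ j, z * g j = c * sMinor Ψ j := by
    intro z hz
    rw [← span_sMinor] at hz
    induction hz using Submodule.span_induction with
    | mem d hd => obtain ⟨i, rfl⟩ := hd; exact ⟨g i, fun j => by rw [hsymm, mul_comm]⟩
    | zero => exact ⟨0, fun j => by simp⟩
    | add p q _ _ hp hq => obtain ⟨c, hc⟩ := hp; obtain ⟨c', hc'⟩ := hq; exact ⟨c + c', fun j => by rw [add_mul, add_mul, hc, hc']⟩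
    | smul r p _ hp => obtain ⟨c, hc⟩ := hp; exact ⟨r * c, fun j => by rw [smul_eq_mul, mul_assoc, hc, mul_assoc]⟩
  obtain ⟨a, ha⟩ : ∃ a, ∀ j, g j = a * sMinor Ψ j := by
    rcases hpair with h | ⟨y, hy, hyr⟩
    · obtain ⟨c, hc⟩ := hcoef 1 (h ▸ Submodule.mem_top)
      exact ⟨c, fun j => by rw [← hc j, one_mul]⟩
    obtain ⟨ax, hax⟩ := hcoef x hx
    obtain ⟨ay, hay⟩ := hcoef y hy
    have hkill : ∀ z ∈ minorIdeal Ψ m, (y * ax - x * ay) * z = 0 := by
      intro z hz
      rw [← span_sMinor] at hz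
      induction hz using Submodule.span_induction with
      | mem d hd =>
        obtain ⟨j, rfl⟩ := hd
        rw [sub_mul, mul_assoc, mul_assoc, ← hax, ← hay]; ring
      | zero => rw [mul_zero]
      | add p q _ _ hp hq => rw [mul_add, hp, hq, add_zero]
      | smul r p _ hp => rw [smul_eq_mul, mul_left_comm, hp, mul_zero]
    have h0 := mem_nonZeroDivisors_iff_right.1 hxn _ (hkill x hx)
    obtain ⟨a, rfl⟩ := hyr ax ⟨ay, sub_eq_zero.1 h0⟩
    exact ⟨a, fun j => (mul_cancel_left_mem_nonZeroDivisors hxn).1 (by rw [hax j, mul_assoc])⟩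
  refine ⟨a, mem_nonZeroDivisors_iff_right.2 fun z hz => mem_nonZeroDivisors_iff_right.1 hreg₀ z ?_, ?_⟩
  · rw [← hw, hπ, Finset.mul_sum]
    refine Finset.sum_eq_zero fun j _ => ?_
    rw [ha, show z * (w j * (a * sMinor Ψ j)) = (z * a) * (w j * sMinor Ψ j) by ring, hz, zero_mul]
  · have hπ' : π = Fintype.linearCombination R fun i => a * sMinor Ψ i := LinearMap.ext fun v => by
      rw [hπ, Fintype.linearCombination_apply]
      exact Finset.sum_congr rfl fun i _ => by rw [ha, smul_eq_mul]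
    rw [hπ', Fintype.range_linearCombination, ← span_sMinor, Ideal.span_mul_span', Set.singleton_mul, ← Set.range_comp]
    rfl

end Groth.Agent.Minor14
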